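import Cfsg.Agent.H957.T5Main_m3
import Cfsg.Agent.H897.MeetPSL
import Cfsg.Agent.Prune
set_option linter.all false
prune_inst 0x7f00000000000000000000000000000000000000000000000000000000000000000000000000000000000000000000000000000000000000000000000000000000000000000000000000000000000000003fffffffffffffffffffffffffffbeffbdffffffff
open scoped Cfsg.Agent.FastGrp

/-!
# S2274: strong pairs of semilinear maps and `PSL_n(q)`

`SPV F p c d` : the strong pair predicate for `SL(V)`-conjugates.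

* `srow_psl_type_of` : `SRow p PSL_n(F)` from `SPV` for the semilinear maps of order `p` modulo scalars;
* `spv_of_srow` : the converse, for every `V` of dimension `n`;
* `SPV.of_sub` : from (semilinear maps induced on) subspaces;
* `exists_type`, `srow_psl_of` : any universe.
-/

set_option autoImplicit false

universe u

namespace Cfsg.Agent.H716.S5

open Matrix Module
open Cfsg.Agent.H957.T5V Cfsg.Agent.H957.T5Tr Cfsg.Agent.H533.T5
open Cfsg.Agent.H199.PslAut
open Cfsg.Agent.ClassicalGeometry.AutPSL.Root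
open Cfsg.Agent.ClassicalGeometry.AutPSL.Auto
open Cfsg.Agent.H897.MeetPSL
open Cfsg.Agent.H903.SylSemi (Ind scal scal_apply)

section defs

variable (F : Type*) [Field F] (V : Type*) [AddCommGroup V] [Module F V]

/-- `SL(V)` acting on `V`. -/
noncomputable def slHom : (LinearEquiv.det : (V ≃ₗ[F] V) →* Fˣ).ker →* Equiv.Perm V :=
  toA.comp (Subgroup.subtype _)

variable {F V}

theorem semi_slHom (g : (LinearEquiv.det : (V ≃ₗ[F] V) →* Fˣ).ker) :
    Semi (1 : F ≃+* F) (slHom F V g) := semi_toA _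

variable (F) in
/-- The strong pair predicate, `SL(V)`-conjugates. -/
def SPV (p : ℕ) (c d : Equiv.Perm V) : Prop := SP F p (slHom F V) c d

variable {p : ℕ} {σ τ : F ≃+* F} {c d c' d' : Equiv.Perm V}

theorem SPV.symm (hc : Semi σ c) (h : SPV F p c d) : SPV F p d c := SP.symm semi_slHom hc h

theorem SPV.of_scl [Nontrivial V] (hc : Semi σ c) (hd : Semi τ d) (hcc : Scl F c' c)
    (hdd : Scl F d' d) (h : SPV F p c' d') : SPV F p c d := SP.of_scl semi_slHom hc hd hcc hdd h

theorem SPV.conj_right {g : V ≃ₗ[F] V} (hg : LinearEquiv.det g = 1)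
    (h : SPV F p c (toA g * d * (toA g)⁻¹)) : SPV F p c d :=
  SP.conj_right (s := ⟨g, hg⟩) h

end defs

section range

variable {F : Type*} [Field F] {V : Type*} [AddCommGroup V] [Module F V]
  {X : Type*} [Group X] {Y : Type*} [Group Y] {p : ℕ}

theorem SP.of_range {ρ : X →* Equiv.Perm V} {ρ' : Y →* Equiv.Perm V}
    (h : ∀ x, ∃ y, ρ' y = ρ x) {c d : Equiv.Perm V} (hs : SP F p ρ c d) : SP F p ρ' c d := by
  obtain ⟨⟨s, h1⟩, ⟨s', h2⟩⟩ := hs
  obtain ⟨t, ht⟩ := h s
  obtain ⟨t', ht'⟩ := h s'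
  exact ⟨⟨t, by rw [ht]; exact h1⟩, ⟨t', by rw [ht']; exact h2⟩⟩

end range

section sub

variable {F : Type*} [Field F] {V : Type*} [AddCommGroup V] [Module F V] [FiniteDimensional F V]
  {W : Type*} [AddCommGroup W] [Module F W] [FiniteDimensional F W] {p : ℕ}

/-- **Subspaces**: `c` preserves `i(W)` and induces `c0` there, `d` preserves `j(W)` and induces `d0`. -/
theorem SPV.of_sub (hlt : finrank F W < finrank F V) (i j : W →ₗ[F] V)
    (hi : Function.Injective i) (hj : Function.Injective j)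
    {c d : Equiv.Perm V} {c0 d0 : Equiv.Perm W}
    (hc : ∀ w, c (i w) = i (c0 w)) (hd : ∀ w, d (j w) = j (d0 w))
    (h : SPV F p c0 d0) : SPV F p c d := by
  refine SP.of_emb i j hi hc hd ?_ h
  rintro ⟨s0, -⟩
  let b : Basis (Fin (finrank F W)) F W := finBasis F W
  have hu : LinearIndependent F (fun k => j (b k)) :=
    b.linearIndependent.map' j (LinearMap.ker_eq_bot.2 hj)
  have hv : LinearIndependent F (fun k => i (s0 (b k))) :=
    b.linearIndependent.map' (i.comp (s0 : W →ₗ[F] W))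
      (LinearMap.ker_eq_bot.2 (hi.comp s0.injective))
  obtain ⟨g, hg, hgu⟩ := Cfsg.Agent.H957.T5Conf.exists_sl_of_lt hu hv hlt
  refine ⟨⟨g, hg⟩, fun w => ?_⟩
  change g (j w) = i (s0 w)
  have h1 : (g : V →ₗ[F] V).comp j = i.comp (s0 : W →ₗ[F] W) := b.ext hgu
  exact congrArg (fun f : W →ₗ[F] V => f w) h1

omit [FiniteDimensional F V] [FiniteDimensional F W] in
/-- Transport along a linear equivalence. -/
theorem SPV.of_equiv (e : W ≃ₗ[F] V) {c d : Equiv.Perm V} {c0 d0 : Equiv.Perm W}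
    (hc : ∀ w, c (e w) = e (c0 w)) (hd : ∀ w, d (e w) = e (d0 w))
    (h : SPV F p c0 d0) : SPV F p c d := by
  refine SP.of_emb (e : W →ₗ[F] V) (e : W →ₗ[F] V) e.injective hc hd ?_ h
  rintro ⟨s0, hs0⟩
  refine ⟨⟨(e.symm.trans s0).trans e, ?_⟩, fun w => ?_⟩
  · rw [MonoidHom.mem_ker] at hs0 ⊢
    rw [← hs0]
    exact LinearEquiv.det_conj s0 e
  · change e (s0 (e.symm (e w))) = e (s0 w)
    rw [LinearEquiv.symm_apply_apply]

end sub

section restrict

variable {F : Type*} [Field F] {V : Type*} [AddCommGroup V] [Module F V]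
  {W : Type*} [AddCommGroup W] [Module F W]

omit [AddCommGroup V] [AddCommGroup W] in
theorem pow_intertwine {i : W → V} {c : Equiv.Perm V} {c0 : Equiv.Perm W}
    (h : ∀ w, c (i w) = i (c0 w)) (m : ℕ) (w : W) : (c ^ m) (i w) = i ((c0 ^ m) w) := by
  induction m generalizing w with
  | zero => rfl
  | succ m ih => rw [pow_succ, pow_succ, Equiv.Perm.mul_apply, Equiv.Perm.mul_apply, h, ih]

theorem isScal_of_intertwine (i : W →ₗ[F] V) (hi : Function.Injective i) {c : Equiv.Perm V}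
    {c0 : Equiv.Perm W} (h : ∀ w, c (i w) = i (c0 w)) (hs : IsScal F c) : IsScal F c0 := by
  obtain ⟨a, ha⟩ := hs
  refine ⟨a, fun w => hi ?_⟩
  rw [← h, ha, map_smul]

/-- The semilinear map induced on an invariant subspace. -/
theorem exists_restrict [Finite W] (i : W →ₗ[F] V) (hi : Function.Injective i) {σ : F ≃+* F}
    {c : Equiv.Perm V} (hc : Semi σ c) (hR : ∀ w, ∃ w', c (i w) = i w') :
    ∃ c0 : Equiv.Perm W, Semi σ c0 ∧ (∀ w, c (i w) = i (c0 w)) ∧
      ∀ m : ℕ, IsScal F (c ^ m) → IsScal F (c0 ^ m) := by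
  choose f hf using hR
  have hinj : Function.Injective f := by
    intro w w' h
    apply hi
    apply c.injective
    rw [hf, hf, h]
  let c0 : Equiv.Perm W := Equiv.ofBijective f (Finite.injective_iff_bijective.1 hinj)
  have h0 : ∀ w, c (i w) = i (c0 w) := hf
  refine ⟨c0, ⟨fun v w => hi ?_, fun a v => hi ?_⟩, h0, fun m hm =>
    isScal_of_intertwine i hi (pow_intertwine h0 m) hm⟩
  · rw [← h0, map_add, hc.add, h0, h0, map_add]
  · rw [← h0, map_smul, hc.smul, h0, map_smul]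

/-- A properly semilinear map is not a scalar. -/
theorem not_isScal_semi [Nontrivial V] {σ : F ≃+* F} {c : Equiv.Perm V} (hc : Semi σ c)
    (hσ : σ ≠ 1) : ¬ IsScal F c := by
  rintro ⟨a, ha⟩
  apply hσ
  obtain ⟨v, hv⟩ := exists_ne (0 : V)
  ext b
  have h1 := hc.smul b v
  rw [ha, ha, smul_smul, smul_smul] at h1
  have h2 : (a * b - σ b * a) • v = 0 := by rw [sub_smul, h1, sub_self]
  have h3 := (smul_eq_zero.1 h2).resolve_right hv
  have ha0 : a ≠ 0 := by
    rintro rfl
    have h4 := ha v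
    rw [zero_smul] at h4
    exact hv (c.injective (h4.trans hc.zero.symm))
  have h4 : a * (b - σ b) = 0 := by linear_combination h3
  exact (sub_eq_zero.1 ((mul_eq_zero.1 h4).resolve_left ha0)).symm

/-- The inclusion of the plane spanned by two independent vectors. -/
noncomputable def plane (u v : V) : (Fin 2 → F) →ₗ[F] V :=
  (LinearMap.toSpanSingleton F V u).comp (LinearMap.proj 0) +
    (LinearMap.toSpanSingleton F V v).comp (LinearMap.proj 1)

theorem plane_apply (u v : V) (w : Fin 2 → F) : plane u v w = w 0 • u + w 1 • v := rfl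

theorem plane_injective {u v : V} (h : LinearIndependent F ![u, v]) :
    Function.Injective (plane u v : (Fin 2 → F) →ₗ[F] V) := by
  rw [← LinearMap.ker_eq_bot, LinearMap.ker_eq_bot']
  intro w hw
  rw [plane_apply] at hw
  obtain ⟨h0, h1⟩ := (Cfsg.Agent.H957.T5Conf.li2_iff.1 h) _ _ hw
  ext k
  fin_cases k
  · exact h0
  · exact h1

end restrict

section psl

variable {F : Type} [Field F] {n p : ℕ}

theorem semi_rho (s : Matrix.SpecialLinearGroup (Fin n) F) :
    Semi (1 : F ≃+* F) (rho n F s) := by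
  refine ⟨fun u v => ?_, fun b v => ?_⟩
  · rw [rho_apply, rho_apply, rho_apply, mulVec_add]
  · rw [rho_apply, rho_apply, mulVec_smul]
    rfl

theorem exists_rho (g : (LinearEquiv.det : ((Fin n → F) ≃ₗ[F] (Fin n → F)) →* Fˣ).ker) :
    ∃ s, rho n F s = slHom F (Fin n → F) g := by
  obtain ⟨g, hg⟩ := g
  rw [MonoidHom.mem_ker] at hg
  have hd : (LinearMap.toMatrix' (g : (Fin n → F) →ₗ[F] (Fin n → F))).det = 1 := by
    rw [LinearMap.det_toMatrix', ← LinearEquiv.coe_det, hg, Units.val_one]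
  refine ⟨⟨LinearMap.toMatrix' (g : (Fin n → F) →ₗ[F] (Fin n → F)), hd⟩, ?_⟩
  ext v : 1
  refine (rho_apply _ v).trans ?_
  change (LinearMap.toMatrix' (g : (Fin n → F) →ₗ[F] (Fin n → F))) *ᵥ v = g v
  rw [LinearMap.toMatrix'_mulVec]
  rfl

theorem exists_slHom (s : Matrix.SpecialLinearGroup (Fin n) F) :
    ∃ g, slHom F (Fin n → F) g = rho n F s := by
  obtain ⟨g, hg⟩ := exists_toA (semi_rho s)
  refine ⟨⟨g, ?_⟩, hg⟩
  rw [MonoidHom.mem_ker]
  apply Units.ext
  rw [LinearEquiv.coe_det, Units.val_one]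
  have h1 : (g : (Fin n → F) →ₗ[F] (Fin n → F)) = Matrix.toLin' (s : Matrix (Fin n) (Fin n) F) := by
    refine LinearMap.ext fun v => ?_
    rw [Matrix.toLin'_apply]
    exact congrArg (fun f : Equiv.Perm (Fin n → F) => f v) hg
  rw [h1, LinearMap.det_toLin', s.2]

theorem sp_rho_iff {c d : Equiv.Perm (Fin n → F)} : SP F p (rho n F) c d ↔ SPV F p c d :=
  ⟨SP.of_range exists_slHom, SP.of_range exists_rho⟩

theorem uniq_psl (hn : 2 ≤ n) : ∀ y : Equiv.Perm (Fin n → F), (∃ θ : F ≃+* F, Semi θ y) →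
    Ind (pr : Matrix.SpecialLinearGroup (Fin n) F →* _) (rho n F) y 1 →
      ∃ a : Fˣ, y = scal F (Fin n → F) a := by
  rintro y ⟨θ, hθ⟩ hy
  obtain ⟨A, rfl⟩ := exists_smap (show Cfsg.Agent.H903.SylSemi.Semi F y θ from ⟨hθ.add, hθ.smul⟩)
  have h1 : Psi n F A * phi n F θ = 1 :=
    Ind.unique pr_surjective rho_injective (ind_smap A θ) hy
  obtain ⟨⟨u, rfl⟩, h2⟩ := Psi_phi_eq hn (g := A) (σ := θ) (τ := 1) (by rw [h1, map_one])
  refine ⟨u, ?_⟩
  ext v : 1
  rw [smap_apply, h2, scal_apply, Cfsg.Agent.H199.PslAut.coe_scal]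
  change (scalar (Fin n) (u : F)) *ᵥ v = (u : F) • v
  rw [Matrix.scalar_apply, Matrix.diagonal_const_mulVec]

variable [Fintype F]

/-- **The strong row of `PSL_n(F)` from strong pairs of semilinear maps.** -/
theorem srow_psl_type_of (hn : 2 ≤ n) [Fact p.Prime] (hp2 : p ≠ 2)
    (hcore : ∀ (σ τ : F ≃+* F) (c d : Equiv.Perm (Fin n → F)), Semi σ c → IsScal F (c ^ p) →
      ¬ IsScal F c → Semi τ d → IsScal F (d ^ p) → ¬ IsScal F d → SPV F p c d) :
    SRow p (Matrix.ProjectiveSpecialLinearGroup (Fin n) F) := by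
  have hp : p.Prime := Fact.out
  have : Nonempty (Fin n) := ⟨⟨0, by omega⟩⟩
  have : Nontrivial (Fin n → F) := Function.nontrivial
  refine srow_of_semi (F := F) hp (π := (pr : Matrix.SpecialLinearGroup (Fin n) F →*
      Matrix.ProjectiveSpecialLinearGroup (Fin n) F)) (ρ := rho n F)
      (W := fun y => ∃ θ : F ≃+* F, Semi θ y) pr_surjective rho_injective semi_rho ?_ ?_ ?_
      (uniq_psl hn) ?_
  · rintro y y' ⟨θ, h⟩ ⟨θ', h'⟩
    exact ⟨θ * θ', h.mul h'⟩
  · intro s
    exact ⟨1, semi_rho s⟩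
  · intro β hβ
    have hP : IsPGroup p ↥(Subgroup.zpowers β) :=
      IsPGroup.of_card (n := 1) (by rw [Nat.card_zpowers, hβ, pow_one])
    obtain ⟨g, σ, rfl⟩ := form_of_pgroup hn hp2 hP (Subgroup.mem_zpowers β)
    exact ⟨smap g σ, ⟨σ, (semi_smap g σ).1, (semi_smap g σ).2⟩, ind_smap g σ⟩
  · rintro y z ⟨θ, hy⟩ ⟨θ', hz⟩ hyp hyn hzp hzn
    rw [sp_rho_iff]
    exact hcore θ θ' y z hy hyp hyn hz hzp hzn

/-- **Strong pairs of semilinear maps from the strong row.** -/
theorem spv_of_srow (hn : 2 ≤ n) (hp : p.Prime)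
    (hrow : SRow p (Matrix.ProjectiveSpecialLinearGroup (Fin n) F))
    {V : Type*} [AddCommGroup V] [Module F V] [FiniteDimensional F V] (hV : finrank F V = n)
    {σ τ : F ≃+* F} {c d : Equiv.Perm V} (hc : Semi σ c) (hcp : IsScal F (c ^ p))
    (hcn : ¬ IsScal F c) (hd : Semi τ d) (hdp : IsScal F (d ^ p)) (hdn : ¬ IsScal F d) :
    SPV F p c d := by
  have : Nonempty (Fin n) := ⟨⟨0, by omega⟩⟩
  have : Nontrivial (Fin n → F) := Function.nontrivial
  let e : (Fin n → F) ≃ₗ[F] V := (finBasisOfFinrankEq F V hV).equivFun.symm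
  let f : Equiv.Perm V →* Equiv.Perm (Fin n → F) :=
    { toFun := fun x => (e.toEquiv.trans x).trans e.symm.toEquiv
      map_one' := by
        ext v : 1
        exact e.symm_apply_apply v
      map_mul' := fun x y => by
        ext v : 1
        change e.symm (x (y (e v))) = e.symm (x (e (e.symm (y (e v)))))
        rw [e.apply_symm_apply] }
  have hf : ∀ x w, e (f x w) = x (e w) := fun x w => e.apply_symm_apply _
  have hfs : ∀ {θ : F ≃+* F} {x : Equiv.Perm V}, Semi θ x → Semi θ (f x) := by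
    intro θ x hx
    constructor
    · intro v w
      apply e.injective
      rw [hf, map_add, hx.add, map_add, hf, hf]
    · intro a v
      apply e.injective
      rw [hf, map_smul, hx.smul, map_smul, hf]
  have hfi : ∀ x : Equiv.Perm V, IsScal F (f x) ↔ IsScal F x := by
    intro x
    constructor
    · rintro ⟨a, ha⟩
      refine ⟨a, fun v => ?_⟩
      obtain ⟨w, rfl⟩ := e.surjective v
      rw [← hf, ha, map_smul]
    · rintro ⟨a, ha⟩
      refine ⟨a, fun w => ?_⟩
      apply e.injective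
      rw [hf, ha, map_smul]
  have hI : ∀ {θ : F ≃+* F} {x : Equiv.Perm (Fin n → F)}, Semi θ x →
      ∃ β, Ind (pr : Matrix.SpecialLinearGroup (Fin n) F →* _) (rho n F) x β := by
    intro θ x hx
    obtain ⟨A, rfl⟩ := exists_smap (show Cfsg.Agent.H903.SylSemi.Semi F x θ from ⟨hx.add, hx.smul⟩)
    exact ⟨_, ind_smap A θ⟩
  refine SPV.of_equiv e (c0 := f c) (d0 := f d) (fun w => (hf c w).symm)
    (fun w => (hf d w).symm) ?_
  rw [← sp_rho_iff]
  refine semi_of_srow (W := fun y => ∃ θ : F ≃+* F, Semi θ y) hp (pr_surjective)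
    rho_injective semi_rho ?_ ?_ (uniq_psl hn) hrow ⟨σ, hfs hc⟩ ⟨τ, hfs hd⟩ (hI (hfs hc))
    (hI (hfs hd)) ?_ ?_ ?_ ?_
  · rintro y y' ⟨θ, h⟩ ⟨θ', h'⟩
    exact ⟨θ * θ', h.mul h'⟩
  · intro s
    exact ⟨1, semi_rho s⟩
  · rw [← map_pow, hfi]; exact hcp
  · rw [hfi]; exact hcn
  · rw [← map_pow, hfi]; exact hdp
  · rw [hfi]; exact hdn

end psl

end Cfsg.Agent.H716.S5
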