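import Cfsg.Agent.H132.S5.Main
import Cfsg.Agent.S0243
import Cfsg.Agent.TwoFusion.SLTwoFacts
import Cfsg.Agent.H716.S5.PSL
import Cfsg.Agent.H194.MOwn.PslCore
import Cfsg.Agent.Prune
set_option linter.all false

section
prune_inst 0x7f00000000000000000000000000000000000000000000000000000000000000000000000000000000000000000000000000000000000000000000000000000000000000000000000000000000000000003fffffffffffffffffffffffffffbeffbdffffffff

-- part: H716/S5/Card
section
set_option linter.all false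
open scoped Cfsg.Agent.FastGrp

/-!
# S2274: using `SBelow` for `PSL_m(F)`

* `card_psl_lt` : `|PSL_m(F)| < |PSL_n(F)|` for `2 ≤ m < n`;
* `SBelow.row` : the strong row of a smaller simple group in any universe `Type`;
* `SBelow.psl` : the strong row of `PSL_m(F)`.
-/

set_option autoImplicit false

universe u

namespace Cfsg.Agent.H716.S5

open Matrix Cfsg.Agent.H533.T5 Cfsg.Agent.H132.S5

theorem prod_gl {q : ℕ} (n : ℕ) :
    ∏ i : Fin n, (q ^ n - q ^ (i : ℕ)) = q ^ (n * (n - 1) / 2) * ∏ i ∈ Finset.range n, (q ^ (i + 1) - 1) := by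
  rw [Fin.prod_univ_eq_prod_range (fun i => q ^ n - q ^ i) n]
  have h1 : ∀ i ∈ Finset.range n, q ^ n - q ^ i = q ^ i * (q ^ (n - i) - 1) := by
    intro i hi
    rw [Finset.mem_range] at hi
    rw [Nat.mul_sub, ← pow_add, Nat.add_sub_cancel' hi.le, mul_one]
  rw [Finset.prod_congr rfl h1, Finset.prod_mul_distrib, Finset.prod_pow_eq_pow_sum, ← Finset.sum_range_id_mul_two]
  congr 1
  · rw [Nat.mul_div_cancel _ (by norm_num)]
  · rw [← Finset.prod_range_reflect]
    refine Finset.prod_congr rfl fun i hi => ?_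
    rw [Finset.mem_range] at hi
    congr 2
    omega

theorem card_psl_succ {F : Type*} [Field F] [Fintype F] {n : ℕ} (hn : 2 ≤ n) :
    Nat.card (ProjectiveSpecialLinearGroup (Fin n) F) <
      Nat.card (ProjectiveSpecialLinearGroup (Fin (n + 1)) F) := by
  set q := Fintype.card F with hF
  have hq : 2 ≤ q := Fintype.one_lt_card
  have h1 := S0243.result hF.symm n hn
  have h2 := S0243.result hF.symm (n + 1) (by omega)
  rw [prod_gl] at h1 h2
  rw [Finset.prod_range_succ] at h2
  set A := Nat.card (ProjectiveSpecialLinearGroup (Fin n) F) with hA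
  set B := Nat.card (ProjectiveSpecialLinearGroup (Fin (n + 1)) F) with hB
  have he : (n + 1) * (n + 1 - 1) / 2 = n + n * (n - 1) / 2 := by
    have : (n + 1) * (n + 1 - 1) = n * 2 + n * (n - 1) := by
      obtain ⟨m, rfl⟩ : ∃ m, n = m + 1 := ⟨n - 1, by omega⟩
      simp only [Nat.add_sub_cancel]
      ring
    rw [this, Nat.mul_comm n 2, Nat.mul_add_div (by norm_num)]
  rw [he, pow_add] at h2
  have h3 : Nat.gcd (n + 1) (q - 1) * ((q - 1) * B) =
      q ^ n * (q ^ (n + 1) - 1) * (Nat.gcd n (q - 1) * ((q - 1) * A)) := by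
    rw [h1, h2]; ring
  have hg1 : Nat.gcd (n + 1) (q - 1) ≤ q - 1 := Nat.gcd_le_right _ (by omega)
  have hg0 : 1 ≤ Nat.gcd n (q - 1) := Nat.gcd_pos_of_pos_left _ (by omega)
  have hA0 : 0 < A := by
    have : Finite (ProjectiveSpecialLinearGroup (Fin n) F) := by
      unfold Matrix.ProjectiveSpecialLinearGroup
      infer_instance
    exact Nat.card_pos
  have h4 : (q - 1) * B * (q - 1) ≥ q ^ n * (q ^ (n + 1) - 1) * ((q - 1) * A) := by
    calc (q - 1) * B * (q - 1) ≥ Nat.gcd (n + 1) (q - 1) * ((q - 1) * B) := by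
          rw [mul_comm]; exact Nat.mul_le_mul_right _ hg1
      _ = q ^ n * (q ^ (n + 1) - 1) * (Nat.gcd n (q - 1) * ((q - 1) * A)) := h3
      _ ≥ q ^ n * (q ^ (n + 1) - 1) * (1 * ((q - 1) * A)) :=
          Nat.mul_le_mul_left _ (Nat.mul_le_mul_right _ hg0)
      _ = _ := by rw [one_mul]
  have h5 : q ^ n * (q ^ (n + 1) - 1) > q - 1 := by
    have e1 : 1 < q ^ n := Nat.one_lt_pow (by omega) (by omega)
    have e2 : q ≤ q ^ (n + 1) := Nat.le_self_pow (by omega) q
    have e3 : 1 * (q - 1) < q ^ n * (q - 1) := Nat.mul_lt_mul_of_pos_right e1 (by omega)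
    have e4 : q ^ n * (q - 1) ≤ q ^ n * (q ^ (n + 1) - 1) := Nat.mul_le_mul_left _ (by omega)
    omega
  by_contra hcon
  push Not at hcon
  have h6 : (q - 1) * B * (q - 1) ≤ (q - 1) * ((q - 1) * A) := by
    calc (q - 1) * B * (q - 1) = (q - 1) * ((q - 1) * B) := by ring
      _ ≤ _ := Nat.mul_le_mul_left _ (Nat.mul_le_mul_left _ hcon)
  have h7 : (q - 1) * ((q - 1) * A) < q ^ n * (q ^ (n + 1) - 1) * ((q - 1) * A) :=
    Nat.mul_lt_mul_of_pos_right h5 (Nat.mul_pos (by omega) hA0)
  omega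

theorem card_psl_lt {F : Type*} [Field F] [Fintype F] {m n : ℕ} (hm : 2 ≤ m) (hmn : m < n) :
    Nat.card (ProjectiveSpecialLinearGroup (Fin m) F) <
      Nat.card (ProjectiveSpecialLinearGroup (Fin n) F) := by
  induction n, hmn using Nat.le_induction with
  | base => exact card_psl_succ hm
  | succ n hmn ih => exact ih.trans (card_psl_succ (by omega))

/-- Using the rows of the smaller groups. -/
theorem SBelow.row {p N : ℕ} (hlt : SBelow.{u} p N) {K : Type} [Group K] [Finite K]
    [IsSimpleGroup K] (hna : ¬ IsMulCommutative K) (hK : Nat.card K < N) : SRow p K := by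
  have e : ULift.{u} K ≃* K := MulEquiv.ulift
  have hs : IsSimpleGroup (ULift.{u} K) := e.isSimpleGroup
  have hna' : ¬ IsMulCommutative (ULift.{u} K) := by
    intro h
    apply hna
    refine ⟨⟨fun a b => ?_⟩⟩
    apply e.symm.injective
    rw [map_mul, map_mul]
    exact h.is_comm.comm _ _
  exact Cfsg.Agent.H897.T5Sub.SRow.congr e (hlt (ULift.{u} K) hs hna' (by rwa [Nat.card_congr e.toEquiv]))

end Cfsg.Agent.H716.S5
end

-- part: H716/S5/Own
section
set_option linter.all false
open scoped Cfsg.Agent.FastGrp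

/-!
# S2274, task O1: the strong row of `PSL_n(q)`, `n ≥ 3`, own characteristic `p ≥ 5`

Every semilinear map of order `p` modulo scalars has an invariant plane on which it is not a scalar.
-/

set_option autoImplicit false

universe u

namespace Cfsg.Agent.H716.S5

open Module Cfsg.Agent.H533.T5 Cfsg.Agent.H132.S5
open Cfsg.Agent.H957.T5V Cfsg.Agent.H957.T5Conf Cfsg.Agent.H957.T5Pairs Cfsg.Agent.H957.T5Main
open Cfsg.Agent.H194.MOwn

section plane

variable {F V : Type*} [Field F] [Finite F] [AddCommGroup V] [Module F V]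
variable {p : ℕ} {σ : F ≃+* F} {c : Equiv.Perm V}

/-- **An invariant plane**, from a multiple of `c`. -/
theorem plane_of_smulA (hc : Semi σ c) (hcp : IsScal F (c ^ p)) (s : Fˣ) {u v : V}
    (hli : LinearIndependent F ![u, v]) {a1 a2 a3 a4 : F}
    (hu : smulA s c u = a1 • u + a2 • v) (hv : smulA s c v = a3 • u + a4 • v)
    (hns : σ ≠ 1 ∨ a2 ≠ 0 ∨ a3 ≠ 0 ∨ a1 ≠ a4) :
    ∃ (i : (Fin 2 → F) →ₗ[F] V) (c0 : Equiv.Perm (Fin 2 → F)), Function.Injective i ∧
      Semi σ c0 ∧ (∀ w, c (i w) = i (c0 w)) ∧ IsScal F (c0 ^ p) ∧ ¬ IsScal F c0 := by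
  have hi := plane_injective hli
  have hcs : ∀ w, c w = (s : F)⁻¹ • smulA s c w := fun w => by
    rw [smulA_apply, inv_smul_smul₀ s.ne_zero]
  obtain ⟨c0, h1, h2, h3⟩ := exists_restrict (plane u v) hi hc (by
    intro w
    refine ⟨![(s : F)⁻¹ * (s * (s : F)⁻¹ * (σ (w 0) * a1 + σ (w 1) * a3)),
      (s : F)⁻¹ * (s * (s : F)⁻¹ * (σ (w 0) * a2 + σ (w 1) * a4))], ?_⟩
    rw [plane_apply, plane_apply, hc.add, hc.smul, hc.smul, hcs u, hcs v, hu, hv,
      mul_inv_cancel₀ s.ne_zero]
    simp only [Matrix.cons_val_zero, Matrix.cons_val_one]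
    module)
  refine ⟨plane u v, c0, hi, h1, h2, h3 p hcp, ?_⟩
  by_cases hσ : σ = 1
  · subst hσ
    rintro ⟨a, ha⟩
    have hsc : ∀ w : Fin 2 → F, smulA s c (plane u v w) = (s * a) • plane u v w := by
      intro w
      rw [smulA_apply, h2, ha, map_smul, smul_smul]
    have e1 : (plane u v : (Fin 2 → F) →ₗ[F] V) ![(1 : F), 0] = u := by
      rw [plane_apply]; simp
    have e2 : (plane u v : (Fin 2 → F) →ₗ[F] V) ![(0 : F), 1] = v := by
      rw [plane_apply]; simp
    have h4 := hsc ![1, 0]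
    have h5 := hsc ![0, 1]
    rw [e1, hu] at h4
    rw [e2, hv] at h5
    rw [li2_iff] at hli
    obtain ⟨h6, h7⟩ := hli (a1 - s * a) a2 (by
      have : a1 • u + a2 • v - (s * a : F) • u = 0 := sub_eq_zero.2 h4
      rw [← this]; module)
    obtain ⟨h8, h9⟩ := hli a3 (a4 - s * a) (by
      have : a3 • u + a4 • v - (s * a : F) • v = 0 := sub_eq_zero.2 h5
      rw [← this]; module)
    rcases hns with h | h | h | h
    · exact h rfl
    · exact h h7
    · exact h h8
    · apply h
      linear_combination h6 - h9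
  · exact not_isScal_semi h1 hσ

theorem exists_plane_own [FiniteDimensional F V] [Fact p.Prime] [CharP F p] (hp5 : 5 ≤ p)
    (hn : 2 ≤ finrank F V) (hc : Semi σ c) (hcp : IsScal F (c ^ p)) (hcn : ¬ IsScal F c) :
    ∃ (i : (Fin 2 → F) →ₗ[F] V) (c0 : Equiv.Perm (Fin 2 → F)), Function.Injective i ∧
      Semi σ c0 ∧ (∀ w, c (i w) = i (c0 w)) ∧ IsScal F (c0 ^ p) ∧ ¬ IsScal F c0 := by
  have hp : p.Prime := Fact.out
  have : Nontrivial V := nontrivial_of_finrank_pos (R := F) (by omega)
  have hq : ¬ p ∣ Nat.card F - 1 := by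
    intro h
    have h1 : p ∣ Nat.card F := by
      have : Fintype F := Fintype.ofFinite F
      obtain ⟨n, -, hn⟩ := FiniteField.card F p
      rw [Nat.card_eq_fintype_card, hn]
      exact dvd_pow_self _ n.ne_zero
    have h2 : 0 < Nat.card F := Nat.card_pos
    have h3 : p ∣ 1 := by
      have := (Nat.dvd_sub h1 h)
      rwa [Nat.sub_sub_self h2] at this
    exact hp.one_lt.ne' (Nat.dvd_one.1 h3)
  obtain ⟨s, hs⟩ := exists_nf hp hp5 hc hcp
  rcases hs with ⟨rfl, hs⟩ | ⟨rfl, hs, hq'⟩ | ⟨ho, hs⟩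
  · obtain ⟨u1, u2, hli, h1, h2⟩ := exists_jordan (hc.smulA s) hs (not_isScal_smulA hcn)
    exact plane_of_smulA (a1 := 1) (a2 := 1) (a3 := 0) (a4 := 1) hc hcp s hli
      (by rw [h2]; module) (by rw [h1]; module) (Or.inr (Or.inl one_ne_zero))
  · exact absurd hq' hq
  · obtain ⟨b, hb, hbc⟩ := exists_fixed_basis hp.pos (hc.smulA s) ho hs hn
    have hb' : LinearIndependent F ![b 0, b 1] := by
      have : b = ![b 0, b 1] := by
        funext i; fin_cases i <;> rfl
      rwa [← this]
    refine plane_of_smulA (a1 := 1) (a2 := 0) (a3 := 0) (a4 := 1) hc hcp s hb'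
      (by rw [hbc]; module) (by rw [hbc]; module) (Or.inl ?_)
    rintro rfl
    rw [orderOf_one] at ho
    exact hp.one_lt.ne ho

end plane

/-- **The strong pairs of semilinear maps, own characteristic, dimension at least 3.** -/
theorem spv_own {F : Type} [Field F] [Fintype F] {V : Type*} [AddCommGroup V] [Module F V]
    [FiniteDimensional F V] {p : ℕ} [Fact p.Prime] [CharP F p] (hp5 : 5 ≤ p)
    (hrow : SRow p (Matrix.ProjectiveSpecialLinearGroup (Fin 2) F)) (hn : 2 < finrank F V)
    {σ τ : F ≃+* F} {c d : Equiv.Perm V} (hc : Semi σ c) (hcp : IsScal F (c ^ p))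
    (hcn : ¬ IsScal F c) (hd : Semi τ d) (hdp : IsScal F (d ^ p)) (hdn : ¬ IsScal F d) :
    SPV F p c d := by
  obtain ⟨i, c0, hi, hc0, hic, hcp0, hcn0⟩ := exists_plane_own hp5 hn.le hc hcp hcn
  obtain ⟨j, d0, hj, hd0, hjd, hdp0, hdn0⟩ := exists_plane_own hp5 hn.le hd hdp hdn
  have h2 : finrank F (Fin 2 → F) = 2 := by
    rw [Module.finrank_fintype_fun_eq_card, Fintype.card_fin]
  exact SPV.of_sub (by rw [h2]; exact hn) i j hi hj hic hjd
    (spv_of_srow le_rfl Fact.out hrow h2 hc0 hcp0 hcn0 hd0 hdp0 hdn0)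

/-- **The strong row of `PSL_n(F)`, `n ≥ 3`, own characteristic**, from the row of `PSL_2(F)`. -/
theorem srow_psl_own_type {F : Type} [Field F] [Fintype F] {n p : ℕ} (hn : 3 ≤ n) [Fact p.Prime]
    (hp5 : 5 ≤ p) [CharP F p] (hrow : SRow p (Matrix.ProjectiveSpecialLinearGroup (Fin 2) F)) :
    SRow p (Matrix.ProjectiveSpecialLinearGroup (Fin n) F) := by
  refine srow_psl_type_of (by omega) (by omega) ?_
  intro σ τ c d hc hcp hcn hd hdp hdn
  exact spv_own hp5 hrow (by
    rw [Module.finrank_fintype_fun_eq_card, Fintype.card_fin]; exact hn) hc hcp hcn hd hdp hdn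

theorem not_comm_psl_two {F : Type*} [Field F] [Fintype F] (h3 : 3 < Fintype.card F) :
    ¬ IsMulCommutative (Matrix.ProjectiveSpecialLinearGroup (Fin 2) F) := by
  intro h
  have h1 := TwoFusion.SLTwoFacts.commutator_eq_top h3
  have hs := TwoFusion.SLTwoFacts.isSimpleGroup_psl h3
  have h2 : commutator (Matrix.ProjectiveSpecialLinearGroup (Fin 2) F) = ⊤ :=
    Cfsg.Agent.H897.T5Sub.commutator_of_surjective h1 (f := QuotientGroup.mk' _)
      (QuotientGroup.mk'_surjective _)
  have h5 : commutator (Matrix.ProjectiveSpecialLinearGroup (Fin 2) F) = ⊥ := by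
    rw [commutator_def, Subgroup.commutator_eq_bot_iff_le_centralizer]
    intro x _
    rw [Subgroup.mem_centralizer_iff]
    intro y _
    exact h.is_comm.comm y x
  rw [h5] at h2
  exact bot_ne_top h2

/-- A finite field has a copy in `Type`. -/
theorem exists_type (F : Type*) [Field F] [Fintype F] :
    ∃ (F' : Type) (_ : Field F') (_ : Fintype F'), Nonempty (F ≃+* F') := by
  have : Small.{0} F := inferInstance
  have : Fintype (Shrink.{0} F) := Fintype.ofEquiv F (equivShrink F)
  exact ⟨Shrink.{0} F, inferInstance, this, ⟨(Shrink.ringEquiv F).symm⟩⟩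

/-- `PSL_n(F) ≃ PSL_n(F')`. -/
def pslCongr {F F' : Type*} [Field F] [Field F'] (f : F ≃+* F') (n : ℕ) :
    Matrix.ProjectiveSpecialLinearGroup (Fin n) F ≃*
      Matrix.ProjectiveSpecialLinearGroup (Fin n) F' :=
  let g : Matrix.SpecialLinearGroup (Fin n) F ≃* Matrix.SpecialLinearGroup (Fin n) F' :=
    { Matrix.SpecialLinearGroup.map f.toRingHom with
      invFun := Matrix.SpecialLinearGroup.map f.symm.toRingHom
      left_inv := fun x => by
        ext i j
        simp
      right_inv := fun x => by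
        ext i j
        simp }
  QuotientGroup.congr _ _ g (by
    ext x
    constructor
    · rintro ⟨y, hy, rfl⟩
      rw [Subgroup.mem_center_iff]
      intro z
      obtain ⟨w, rfl⟩ := g.surjective z
      have := Subgroup.mem_center_iff.1 hy w
      change g w * g y = g y * g w
      rw [← map_mul, this, map_mul]
    · intro hx
      refine ⟨g.symm x, ?_, by simp⟩
      change g.symm x ∈ Subgroup.center _
      rw [Subgroup.mem_center_iff]
      intro z
      apply g.injective
      have := Subgroup.mem_center_iff.1 hx (g z)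
      rw [map_mul, map_mul, g.apply_symm_apply]
      exact this)

/-- The form for groups isomorphic to `PSL_n(F)`, from the rows of the groups `PSL_2`. -/
theorem srow_psl_own_of {S : Type*} [Group S] {F : Type*} [Field F] [Fintype F] {n p : ℕ}
    (hn : 3 ≤ n) [Fact p.Prime] (hp5 : 5 ≤ p) [CharP F p]
    (hrow : ∀ (F' : Type) [Field F'] [Fintype F'] [CharP F' p], Fintype.card F' = Fintype.card F →
      SRow p (Matrix.ProjectiveSpecialLinearGroup (Fin 2) F'))
    (e : S ≃* Matrix.ProjectiveSpecialLinearGroup (Fin n) F) : SRow p S := by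
  obtain ⟨F', _, _, ⟨f⟩⟩ := exists_type F
  have : CharP F' p := (RingHom.charP_iff f.toRingHom f.injective p).1 inferInstance
  exact Cfsg.Agent.H897.T5Sub.SRow.congr (e.trans (pslCongr f n)).symm
    (srow_psl_own_type hn hp5 (hrow F' (Fintype.card_congr f.symm.toEquiv)))

/-- **O1: the strong row of `PSL_n(q)`, `n ≥ 3`, `p ≥ 5` the characteristic.** -/
theorem srow_psl_own {S : Type u} [Group S] [Finite S] {F : Type*} [Field F] [Fintype F] {n p : ℕ}
    (hn : 3 ≤ n) [Fact p.Prime] (hp5 : 5 ≤ p) [CharP F p] (hlt : SBelow.{u} p (Nat.card S))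
    (e : S ≃* Matrix.ProjectiveSpecialLinearGroup (Fin n) F) : SRow p S := by
  refine srow_psl_own_of hn hp5 ?_ e
  intro F' _ _ _ hcard
  have h5 : 5 ≤ Fintype.card F' := by
    obtain ⟨m, -, hm⟩ := FiniteField.card F' p
    rw [hm]
    calc 5 ≤ p ^ 1 := by rw [pow_one]; exact hp5
      _ ≤ p ^ (m : ℕ) := Nat.pow_le_pow_right (by omega) m.pos
  have hs : IsSimpleGroup (Matrix.ProjectiveSpecialLinearGroup (Fin 2) F') :=
    TwoFusion.SLTwoFacts.isSimpleGroup_psl (by omega)
  have hfin : Finite (Matrix.ProjectiveSpecialLinearGroup (Fin 2) F') := by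
    unfold Matrix.ProjectiveSpecialLinearGroup
    infer_instance
  refine SBelow.row hlt (not_comm_psl_two (by omega)) ?_
  rw [Nat.card_congr e.toEquiv]
  have hq : Nat.card (Matrix.ProjectiveSpecialLinearGroup (Fin 2) F') =
      Nat.card (Matrix.ProjectiveSpecialLinearGroup (Fin 2) F) := by
    have h1 := S0243.result (F := F') rfl 2 le_rfl
    have h2 := S0243.result (F := F) rfl 2 le_rfl
    rw [hcard] at h1
    rw [← h2] at h1
    have h3 : 0 < Nat.gcd 2 (Fintype.card F - 1) := Nat.gcd_pos_of_pos_left _ (by omega)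
    have h4 : 0 < Fintype.card F - 1 := by omega
    exact Nat.eq_of_mul_eq_mul_left h4 (Nat.eq_of_mul_eq_mul_left h3 h1)
  rw [hq]
  exact card_psl_lt le_rfl (by omega)

end Cfsg.Agent.H716.S5
end
end
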